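import Groth.Agent.HorizDivLib.Kill
import Groth.Agent.ClProdLib.Basic
import Groth.Agent.BivarLib.ProperPush
import Groth.Agent.CycLib.SetupLft
import Mathlib.FieldTheory.RatFunc.AsPolynomial

/-!
# Divisors on the product of a smooth proper curve with the affine line
-/

set_option autoImplicit false
set_option backward.isDefEq.respectTransparency false
set_option linter.style.haveILetI false
set_option linter.unusedSectionVars false

universe u

open CategoryTheory CategoryTheory.Limits AlgebraicGeometry TopologicalSpace Polynomial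

noncomputable section

namespace Groth.Agent.HorizDivLib

open CycLib BivarLib ClProdLib

variable {k : Type u} [Field k]

/-- The affine line as affine space. -/
def lineIso : 𝔸(AffBundle.Idx.{u} 1; Spec (CommRingCat.of k)) ≅ Spec (CommRingCat.of k[X]) :=
  AffineSpace.SpecIso (AffBundle.Idx.{u} 1) (CommRingCat.of k) ≪≫
    Scheme.Spec.mapIso (MvPolynomial.uniqueAlgEquiv k (AffBundle.Idx.{u} 1)).symm.toRingEquiv.toCommRingCatIso.op

theorem lineIso_over : (lineIso (k := k)).hom ≫ Spec.map (CommRingCat.ofHom (Polynomial.C : k →+* k[X])) =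
    𝔸(AffBundle.Idx.{u} 1; Spec (CommRingCat.of k)) ↘ Spec (CommRingCat.of k) := by
  rw [← Iso.eq_inv_comp]
  have h1 : (lineIso (k := k)).inv = Spec.map (CommRingCat.ofHom
      (MvPolynomial.uniqueAlgEquiv k (AffBundle.Idx.{u} 1)).toRingEquiv.toRingHom) ≫
      (AffineSpace.SpecIso (AffBundle.Idx.{u} 1) (CommRingCat.of k)).inv := rfl
  rw [h1, Category.assoc, AffineSpace.SpecIso_inv_over, ← Spec.map_comp]
  exact congrArg Spec.map (CommRingCat.hom_ext (RingHom.ext fun a =>
    ((MvPolynomial.uniqueAlgEquiv k (AffBundle.Idx.{u} 1)).commutes a).symm))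

theorem geometricallyIntegral_line :
    GeometricallyIntegral (Spec.map (CommRingCat.ofHom (Polynomial.C : k →+* k[X]))) := by
  rw [← MorphismProperty.cancel_left_of_respectsIso @GeometricallyIntegral (lineIso (k := k)).hom, lineIso_over]
  infer_instance

theorem hasRelDim_line : Cyc.HasRelDim (Spec.map (CommRingCat.ofHom (Polynomial.C : k →+* k[X]))) 1 := by
  let a := Spec.map (CommRingCat.ofHom (Polynomial.C : k →+* k[X]))
  haveI : LocallyOfFiniteType a := (HasRingHomProperty.Spec_iff (P := @LocallyOfFiniteType)).2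
    (RingHom.finiteType_algebraMap.2 (inferInstance : Algebra.FiniteType k k[X]))
  obtain ⟨δA, hA⟩ := exists_delta a (fun _ : Spec (CommRingCat.of k) => (0 : ℤ))
  have hf : AffBundle.LocTriv a 1 := fun y =>
    ⟨Spec (CommRingCat.of k), 𝟙 _, inferInstance, lineIso.hom, ⟨y, rfl⟩,
      IsPullback.of_horiz_isIso ⟨by rw [Category.comp_id]; exact lineIso_over⟩⟩
  exact hasRelDim_of_isShift (isShift_locTriv a hA hf) hA

variable {X P : Scheme.{u}} (f : X ⟶ Spec (CommRingCat.of k)) [AlgebraicGeometry.IsIntegral X] [IsProper f] [Smooth f]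
  (hdim : topologicalKrullDim X = 1) (p₁ : P ⟶ X) (p₂ : P ⟶ Spec (CommRingCat.of k[X]))
  (hP : IsPullback p₁ p₂ f (Spec.map (CommRingCat.ofHom (Polynomial.C : k →+* k[X]))))

/-- The coordinate of the affine line. -/
def coordT : Γ(P, ⊤) := p₂.appTop ((Scheme.ΓSpecIso (CommRingCat.of k[X])).inv Polynomial.X)

include hP in
theorem isTransCoord_coordT : IsTransCoord p₁ (coordT p₂) := by
  intro x
  let κ : Type u := X.residueField x
  let ι : κ →+* RatFunc κ := algebraMap κ (RatFunc κ)
  let c : k →+* RatFunc κ := (Spec.preimage (Spec.map (X.residue x ≫ CommRingCat.ofHom ι) ≫ X.fromSpecStalk x ≫ f)).hom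
  let φ : k[X] →+* RatFunc κ := Polynomial.eval₂RingHom c RatFunc.X
  have hcomm : (Spec.map (X.residue x ≫ CommRingCat.ofHom ι) ≫ X.fromSpecStalk x) ≫ f =
      Spec.map (CommRingCat.ofHom φ) ≫ Spec.map (CommRingCat.ofHom (Polynomial.C : k →+* k[X])) := by
    rw [Category.assoc, ← Spec.map_comp, show CommRingCat.ofHom (Polynomial.C : k →+* k[X]) ≫ CommRingCat.ofHom φ =
      CommRingCat.ofHom c from CommRingCat.hom_ext (RingHom.ext fun a => Polynomial.eval₂_C c RatFunc.X)]
    exact (Spec.map_preimage _).symm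
  let m : Spec (CommRingCat.of (RatFunc κ)) ⟶ P := hP.lift _ _ hcomm
  refine ⟨RatFunc κ, inferInstance, ι, m, hP.lift_fst _ _ hcomm, ?_⟩
  have hT : Scheme.stalkClosedPointTo m (P.presheaf.germ ⊤ _ trivial (coordT p₂)) = RatFunc.X := by
    have key : (Scheme.ΓSpecIso (CommRingCat.of k[X])).inv ≫ p₂.appTop ≫
        P.presheaf.germ ⊤ (m (IsLocalRing.closedPoint (RatFunc κ))) trivial ≫ Scheme.stalkClosedPointTo m =
        CommRingCat.ofHom φ := by
      haveI : IsLocalRing (CommRingCat.of (RatFunc κ)) := inferInstanceAs (IsLocalRing (RatFunc κ))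
      have e0 : p₂.appTop ≫ P.presheaf.germ ⊤ (m (IsLocalRing.closedPoint (RatFunc κ))) trivial =
          (Spec (CommRingCat.of k[X])).presheaf.germ ⊤ (p₂ (m (IsLocalRing.closedPoint (RatFunc κ)))) trivial ≫
            p₂.stalkMap _ := (Scheme.Hom.germ_stalkMap p₂ ⊤ _ trivial).symm
      rw [reassoc_of% e0, ← Scheme.stalkClosedPointTo_comp]
      have e1 : m ≫ p₂ = Spec.map (CommRingCat.ofHom φ) := hP.lift_snd _ _ hcomm
      have e2 := Scheme.germ_stalkClosedPointTo_Spec (CommRingCat.ofHom φ)
      rw [Iso.inv_comp_eq]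
      have e3 : ∀ (g : Spec (CommRingCat.of (RatFunc κ)) ⟶ Spec (CommRingCat.of k[X])),
          g = Spec.map (CommRingCat.ofHom φ) →
          (Spec (CommRingCat.of k[X])).presheaf.germ ⊤ (g (IsLocalRing.closedPoint (RatFunc κ))) trivial ≫
            Scheme.stalkClosedPointTo g = (Scheme.ΓSpecIso (CommRingCat.of k[X])).hom ≫ CommRingCat.ofHom φ := by
        rintro g rfl
        exact e2
      exact e3 (m ≫ p₂) e1
    have := ConcreteCategory.congr_hom key Polynomial.X
    exact this.trans (Polynomial.eval₂_X c RatFunc.X)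
  rw [hT]
  have he : Polynomial.eval₂RingHom ι RatFunc.X = algebraMap κ[X] (RatFunc κ) := by
    refine Polynomial.ringHom_ext (fun a => ?_) ?_
    · simp only [Polynomial.coe_eval₂RingHom, Polynomial.eval₂_C]
      exact (RatFunc.algebraMap_C a).symm
    · simp only [Polynomial.coe_eval₂RingHom, Polynomial.eval₂_X]
      exact RatFunc.algebraMap_X.symm
  rw [he]
  exact RatFunc.algebraMap_injective κ

include hdim hP in
/-- Divisors on the product of a curve with the line move off the vertical fibres. -/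
theorem main (δ : P → ℤ) (hδ : Cyc.IsSetup P δ) (c : ℤ)
    (hc : ∀ z : P, IsClosed ({z} : Set P) → δ z + 1 = c) (α : AlgebraicCycle P ℤ) (hα : α ∈ Cyc.Zk P δ c) :
    ∃ β ∈ Cyc.Zk P δ c, Cyc.RatEquiv δ c α β ∧ ∀ z : P, β z ≠ 0 → p₁ z = genericPoint X := by
  haveI := geometricallyIntegral_line (k := k)
  haveI : GeometricallyIntegral p₁ := MorphismProperty.of_isPullback hP.flip inferInstance
  haveI : Flat p₁ := MorphismProperty.of_isPullback hP.flip (ChowFldLib.flat_spec _)
  haveI : LocallyOfFiniteType (Spec.map (CommRingCat.ofHom (Polynomial.C : k →+* k[X]))) :=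
    (HasRingHomProperty.Spec_iff (P := @LocallyOfFiniteType)).2
      (RingHom.finiteType_algebraMap.2 (inferInstance : Algebra.FiniteType k k[X]))
  haveI : LocallyOfFiniteType p₁ := MorphismProperty.of_isPullback hP.flip inferInstance
  haveI : QuasiCompact p₁ := MorphismProperty.of_isPullback hP.flip
    (inferInstance : QuasiCompact (Spec.map (CommRingCat.ofHom (Polynomial.C : k →+* k[X]))))
  haveI : CompactSpace X := QuasiCompact.compactSpace_of_compactSpace f
  haveI : CompactSpace P := QuasiCompact.compactSpace_of_compactSpace p₁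
  haveI : X.IsSeparated := ⟨by
    rw [← terminal.comp_from f]
    infer_instance⟩
  obtain ⟨δX, hX⟩ := exists_delta f (fun _ : Spec (CommRingCat.of k) => (0 : ℤ))
  have hsX := isSetup_of_lft f (isSetup_spec_field k) hX
  haveI := hsX.1
  haveI := hδ.1
  haveI : UniversallyOpen p₁ := inferInstance
  haveI : AlgebraicGeometry.IsIntegral P := GeometricallyIntegral.isIntegral_of_isLocallyNoetherian p₁
  obtain ⟨t₁, ht₁, htr₁, -, -⟩ := IMultLib.delta_facts f hX (genericPoint X)
  have hdX : δX (genericPoint X) = 1 := by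
    have h1 : topologicalKrullDim ↥X = (t₁ : WithBot ℕ∞) := DimFormulaLib.topologicalKrullDim_eq_trdeg f t₁ htr₁
    rw [hdim] at h1
    rw [ht₁]
    exact_mod_cast h1.symm
  obtain ⟨δ', hδ'⟩ := exists_delta p₁ δX
  have hs' := isSetup_of_lft p₁ hsX hδ'
  have hsh : IsShift p₁ δ' δX (1 : ℕ) :=
    IsShift.of_relDim hs' hsX 1 (BivarLib.hasRelDim_baseChange hP.flip 1 hasRelDim_line) hδ'
  have hpη : p₁ (genericPoint P) = genericPoint X := map_genericPoint p₁
  have hδ'η : δ' (genericPoint P) = 2 := by
    have := hsh (genericPoint P) fun w _ hw => (hw.antisymm (genericPoint_specializes w)).eq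
    rw [hpη, hdX] at this
    simpa using this
  have hshift : ∀ z, δ z = δ' z + (δ (genericPoint P) - 2) := fun z => by
    obtain ⟨a1, a2⟩ := ringKrullDim_stalk_of_irreducible hδ.2.2 z
    obtain ⟨b1, b2⟩ := ringKrullDim_stalk_of_irreducible hs'.2.2 z
    have h3 : (δ (genericPoint P) - δ z).toNat = (δ' (genericPoint P) - δ' z).toNat := by
      exact_mod_cast a2.symm.trans b2
    omega
  have hX0 : ∀ x : X, x ≠ genericPoint X → δX x = 0 := fun x hx => by
    have h1 := (hsX.2.2 _ _ (genericPoint_specializes x) (Ne.symm hx)).1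
    obtain ⟨n, -, hn⟩ := hX x
    change δX x = 0 + (n : ℤ) at hn
    omega
  have hcη : δ (genericPoint P) = c + 1 := by
    obtain ⟨z, -, hz⟩ := IsClosed.exists_closed_singleton (X := ↥P) isClosed_univ Set.univ_nonempty
    have h1 := hc z hz
    letI : P.Over (Spec (CommRingCat.of k)) := ⟨p₁ ≫ f⟩
    haveI : LocallyOfFiniteType (P ↘ Spec (CommRingCat.of k)) := inferInstanceAs (LocallyOfFiniteType (p₁ ≫ f))
    have h2 : δ' z = 0 := (delta_eq_zero_iff k δ'
      (CycLib.deltaCompat_comp (p := f) hX hδ') z).2 hz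
    have := hshift z
    omega
  obtain ⟨β, hβ, hr, hv⟩ := exists_ratEquiv_horizontal p₁ (coordT p₂) (isTransCoord_coordT f p₁ p₂ hP) hsX.2.2 hδ.2.2
    (η := genericPoint P) genericPoint_specializes (fun x => hpη ▸ genericPoint_specializes x)
    (fun x hx => by
      rw [hpη] at hx ⊢
      refine ⟨by rw [hX0 x hx, hdX]; rfl, ?_⟩
      haveI := ASp.isRegularLocalRing_stalk_of_smooth_field (k := k) f x
      haveI : IsDomain (X.presheaf.stalk x) := inferInstance
      obtain ⟨a1, a2⟩ := ringKrullDim_stalk_of_irreducible hsX.2.2 x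
      rw [hdX, hX0 x hx] at a2
      have hd1 : ringKrullDim (X.presheaf.stalk x) = 1 := by rw [a2]; rfl
      refine ⟨inferInstance, ?_⟩
      have hnf : ¬ IsField (X.presheaf.stalk x) := fun h => by
        rw [ringKrullDim_eq_zero_of_isField h] at hd1
        exact zero_ne_one hd1
      have hp : (IsLocalRing.maximalIdeal (X.presheaf.stalk x)).IsPrincipal := by
        have h1 := IsRegularLocalRing.spanFinrank_maximalIdeal (R := X.presheaf.stalk x)
        rw [hd1] at h1
        exact ((Submodule.spanFinrank_eq_one_iff _).1 (by exact_mod_cast h1)).1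
      exact ((IsDiscreteValuationRing.TFAE (X.presheaf.stalk x) hnf).out 0 4).2 hp)
    (fun x hx => by
      rw [hpη] at hx
      have h1 := hsh _ (IMultLib.maxFib_fibGen p₁ x)
      rw [apply_fibGen, hX0 x hx] at h1
      have := hshift (fibGen p₁ x)
      simp at h1
      omega)
    hcη α hα
    (fun z hz hne => by
      rw [hpη] at hne
      refine eq_fibGen p₁ (hsh.maxFib_of_eq hs'.2.2 ?_)
      have := hshift z
      rw [hX0 _ hne]
      simp
      omega)
  exact ⟨β, hβ, hr, fun z hz => (hv z hz).trans hpη⟩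

end Groth.Agent.HorizDivLib
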