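import Groth.Agent.HorizDivLib.Val
import Groth.Agent.IMultLib.MultOne

/-!
# Removing the vertical components of a divisor on the relative affine line over a curve
-/

set_option autoImplicit false
set_option backward.isDefEq.respectTransparency false
set_option linter.style.haveILetI false
set_option linter.unusedSectionVars false

universe u

open CategoryTheory CategoryTheory.Limits AlgebraicGeometry TopologicalSpace Polynomial

noncomputable section

namespace Groth.Agent.HorizDivLib

open CycLib ClProdLib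

variable {X P : Scheme.{u}} [X.IsSeparated] [IsLocallyNoetherian X] [CompactSpace X] [IsLocallyNoetherian P]
  [CompactSpace P] (p : P ⟶ X) (t : Γ(P, ⊤)) [GeometricallyIntegral p] (ht : IsTransCoord p t)
  {δX : X → ℤ} {δ : P → ℤ} (hδX : Cyc.IsDimFun X δX) (hδ : Cyc.IsDimFun P δ) {η : P}
  (hgen : ∀ z, η ⤳ z) (hgenX : ∀ x : X, p η ⤳ x)
  (hdvr : ∀ x : X, x ≠ p η → δX x + 1 = δX (p η) ∧
    ∃ _ : IsDomain (X.presheaf.stalk x), IsDiscreteValuationRing (X.presheaf.stalk x))
  (hvert : ∀ x : X, x ≠ p η → δ (fibGen p x) + 1 = δ η)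

include ht hδX hδ hgen hgenX hdvr hvert in
/-- A rational function whose vertical part is one given vertical divisor. -/
theorem exists_vertical_unit (x : X) (hx : x ≠ p η) :
    ∃ h : P.residueField η, h ≠ 0 ∧ Cyc.ordAt (fibGen p x) η (hgen _) h = 1 ∧
      ∀ x', x' ≠ p η → x' ≠ x → Cyc.ordAt (fibGen p x') η (hgen _) h = 0 := by
  classical
  let ν : ∀ y : X, X.residueField (p η) → ℤ := fun y c => Cyc.ordAt y (p η) (hgenX y) c
  obtain ⟨hdx, _, _⟩ := hdvr x hx
  obtain ⟨π, hπ⟩ := IsDiscreteValuationRing.exists_irreducible (X.presheaf.stalk x)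
  set a := Cyc.specMap x (p η) (hgenX x) π
  have ha : a ≠ 0 := specMap_uniformizer_ne_zero (hgenX x) hdx hπ
  have hax : ν x a = 1 := ordAt_uniformizer' hδX (hgenX x) hdx hπ
  have hfin : {y : X | Cyc.divFun δX (p η) a y ≠ 0}.Finite := by
    let F : Fam δX (δX (p η) - 1) := ⟨PUnit, fun _ => p η, fun _ => a, fun _ => by ring, fun _ => ha,
      fun y => ⟨Set.univ, isOpen_univ, trivial, Set.toFinite _⟩⟩
    refine Set.Finite.subset
      (by simpa using (F.cycle hδX).locallyFiniteSupport.finite_inter_support_of_isCompact isCompact_univ :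
        (Function.support ⇑(F.cycle hδX)).Finite) fun y hy => ?_
    show ∑ᶠ _ : PUnit, Cyc.divFun δX (p η) a y ≠ 0
    rwa [finsum_unique]
  have hne : ∀ y, Cyc.divFun δX (p η) a y ≠ 0 → y ≠ p η := fun y hy e => by
    have h1 := (specializes_of_divFun_ne_zero hy).2
    rw [e] at h1
    omega
  let S := hfin.toFinset.filter fun y => y ≠ x
  have hsep : ∀ s : S, ∃ c : X.residueField (p η), c ≠ 0 ∧ 1 ≤ ν x c ∧ ν s.1 c ≤ 0 := fun s => by
    obtain ⟨h1, h2⟩ := Finset.mem_filter.1 s.2
    obtain ⟨hds, _, _⟩ := hdvr s.1 (hne _ (hfin.mem_toFinset.1 h1))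
    exact exists_separating hδX (hgenX x) (hgenX s.1) hdx hds (Ne.symm h2)
  choose c hc0 hcx hcs using hsep
  let e := S.equivFin
  let g₁ : (X.residueField (p η))[X] := C a + ∑ i : Fin S.card, C (c (e.symm i)) * Polynomial.X ^ ((i : ℕ) + 1)
  let g₂ : (X.residueField (p η))[X] := 1 + Polynomial.X * g₁
  have hg0 : g₁.coeff 0 = a := by
    simp [g₁, Polynomial.finsetSum_coeff, Polynomial.coeff_X_pow]
  have hgs : ∀ i : Fin S.card, g₁.coeff ((i : ℕ) + 1) = c (e.symm i) := fun i => by
    simp only [g₁, Polynomial.coeff_add, Polynomial.finsetSum_coeff, Polynomial.coeff_C_mul, Polynomial.coeff_X_pow,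
      Polynomial.coeff_C]
    rw [Finset.sum_eq_single i (fun j _ hj => by rw [if_neg fun e' => hj (Fin.ext (by omega)), mul_zero])
      (fun h => absurd (Finset.mem_univ _) h)]
    simp
  have hg1coe : ∀ n, g₁.coeff n ≠ 0 → n = 0 ∨ ∃ i : Fin S.card, n = (i : ℕ) + 1 := fun n hn => by
    by_contra hall
    push Not at hall
    refine hn ?_
    simp only [g₁, Polynomial.coeff_add, Polynomial.finsetSum_coeff, Polynomial.coeff_C_mul, Polynomial.coeff_X_pow,
      Polynomial.coeff_C]
    rw [if_neg hall.1, zero_add]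
    exact Finset.sum_eq_zero fun i _ => by rw [if_neg (hall.2 i), mul_zero]
  have hg20 : g₂.coeff 0 = 1 := by simp [g₂]
  have hg2s : ∀ n, g₂.coeff (n + 1) = g₁.coeff n := fun n => by simp [g₂, Polynomial.coeff_one]
  have hmaxf : ∀ y : X, MaxFib p (fibGen p y) := fun y => IMultLib.maxFib_fibGen p y
  have key : ∀ y : X, y ≠ p η → ∃ (h0 : polyK p t η g₁ ≠ 0 ∧ polyK p t η g₂ ≠ 0),
      Cyc.ordAt (fibGen p y) η (hgen _) (polyK p t η g₁ / polyK p t η g₂) = if y = x then 1 else 0 := by
    intro y hy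
    set z := fibGen p y with hz
    have hpz : p z = y := apply_fibGen p y
    obtain ⟨hdy, _, _⟩ := hdvr (p z) (hpz.symm ▸ hy)
    have hd : δ z + 1 = δ η := hvert y hy
    have hord := ordAt_polyK ht hδX hδ (hgen z) hd hdy (hmaxf y)
    let μ : X.residueField (p η) → ℤ := fun c => Cyc.ordAt (p z) (p η) ((hgen z).map p.continuous) c
    have hμ : ∀ c, μ c = ν y c := fun c => by
      show _ = Cyc.ordAt y (p η) (hgenX y) c
      have : ∀ (y' : X) (h' : p η ⤳ y') (_ : y' = y), Cyc.ordAt y' (p η) h' c = Cyc.ordAt y (p η) (hgenX y) c := by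
        rintro y' h' rfl; rfl
      exact this _ _ hpz
    obtain ⟨N, hN, hmin⟩ := g₁.support.exists_min_image (fun n => μ (g₁.coeff n))
      ⟨0, Polynomial.mem_support_iff.2 (by rw [hg0]; exact ha)⟩
    rw [Polynomial.mem_support_iff] at hN
    obtain ⟨h1, o1⟩ := hord g₁ (μ (g₁.coeff N)) (fun n hn => hmin n (Polynomial.mem_support_iff.2 hn)) ⟨N, hN, rfl⟩
    have hμ1 : μ 1 = 0 := ordAt_one hδX _ hdy
    by_cases hyx : y = x
    · subst hyx
      have hge : ∀ n, g₁.coeff n ≠ 0 → 1 ≤ μ (g₁.coeff n) := fun n hn => by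
        rw [hμ]
        rcases hg1coe n hn with rfl | ⟨i, rfl⟩
        · rw [hg0, hax]
        · rw [hgs]; exact hcx _
      have hN1 : μ (g₁.coeff N) = 1 := by
        have h' := hmin 0 (Polynomial.mem_support_iff.2 (by rw [hg0]; exact ha))
        have h'' := hge N hN
        rw [hg0, hμ a, hax] at h'
        omega
      obtain ⟨h2, o2⟩ := hord g₂ 0 (fun n hn => by
          rcases n with _ | n
          · rw [hg20]; exact hμ1.ge
          · rw [hg2s] at hn ⊢
            have := hge n hn
            show (0 : ℤ) ≤ μ (g₁.coeff n)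
            omega)
        ⟨0, by rw [hg20]; exact one_ne_zero, by rw [hg20]; exact hμ1⟩
      refine ⟨⟨h1, h2⟩, ?_⟩
      rw [if_pos rfl, div_eq_mul_inv, ordAt_mul hδ _ hd h1 (inv_ne_zero h2), ordAt_inv hδ _ hd h2, o1, o2, hN1]
      ring
    · have hle0 : μ (g₁.coeff N) ≤ 0 := by
        by_cases hya : μ a ≤ 0
        · have := hmin 0 (Polynomial.mem_support_iff.2 (by rw [hg0]; exact ha))
          rw [hg0] at this
          exact this.trans hya
        · have hyS : y ∈ S := by
            refine Finset.mem_filter.2 ⟨hfin.mem_toFinset.2 ?_, hyx⟩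
            show Cyc.divFun δX (p η) a y ≠ 0
            rw [divFun_of (hgenX y) (hpz ▸ hdy)]
            intro e0
            exact hya (by rw [hμ]; exact e0.le)
          have h' := hmin ((e ⟨y, hyS⟩ : ℕ) + 1) (Polynomial.mem_support_iff.2 (by rw [hgs]; exact hc0 _))
          rw [hgs, Equiv.symm_apply_apply] at h'
          refine h'.trans ?_
          rw [hμ]
          exact hcs ⟨y, hyS⟩
      obtain ⟨h2, o2⟩ := hord g₂ (μ (g₁.coeff N)) (fun n hn => by
          rcases n with _ | n
          · rw [hg20]; exact hle0.trans hμ1.ge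
          · rw [hg2s] at hn ⊢
            exact hmin n (Polynomial.mem_support_iff.2 hn))
        ⟨N + 1, by rw [hg2s]; exact hN, by rw [hg2s]⟩
      refine ⟨⟨h1, h2⟩, ?_⟩
      rw [if_neg hyx, div_eq_mul_inv, ordAt_mul hδ _ hd h1 (inv_ne_zero h2), ordAt_inv hδ _ hd h2, o1, o2]
      ring
  obtain ⟨⟨h1, h2⟩, hval⟩ := key x hx
  exact ⟨polyK p t η g₁ / polyK p t η g₂, div_ne_zero h1 h2, by simpa using hval,
    fun x' hx' hne' => by simpa [hne'] using (key x' hx').2⟩

include ht hδX hδ hgen hgenX hdvr hvert in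
/-- Every divisor is rationally equivalent to one without vertical components. -/
theorem exists_ratEquiv_horizontal {c : ℤ} (hc : δ η = c + 1) (α : AlgebraicCycle P ℤ) (hα : α ∈ Cyc.Zk P δ c)
    (hcomp : ∀ z, δ z = c → p z ≠ p η → z = fibGen p (p z)) :
    ∃ β ∈ Cyc.Zk P δ c, Cyc.RatEquiv δ c α β ∧ ∀ z : P, β z ≠ 0 → p z = p η := by
  classical
  have hsupp : (Function.support ⇑α).Finite := by
    simpa using α.locallyFiniteSupport.finite_inter_support_of_isCompact isCompact_univ
  let T : Finset X := (hsupp.image p).toFinset.filter fun x => x ≠ p η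
  have hT : ∀ x : T, x.1 ≠ p η := fun x => (Finset.mem_filter.1 x.2).2
  choose h h0 h1 h2 using fun x : T => exists_vertical_unit p t ht hδX hδ hgen hgenX hdvr hvert x.1 (hT x)
  let F : Fam δ c := ⟨ULift.{u} T, fun _ => η, fun i => h i.down ^ α (fibGen p i.down.1), fun _ => hc,
    fun i => zpow_ne_zero _ (h0 i.down), fun x => ⟨Set.univ, isOpen_univ, trivial, Set.toFinite _⟩⟩
  refine ⟨α - F.cycle hδ, fun z hz => ?_, ?_, fun z hz => ?_⟩
  · show α z - F.cycle hδ z = 0
    rw [hα z hz, zero_sub, neg_eq_zero]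
    show ∑ᶠ i : ULift.{u} T, Cyc.divFun δ η _ z = 0
    refine finsum_eq_zero_of_forall_eq_zero fun i => ?_
    by_contra hne
    have := (specializes_of_divFun_ne_zero hne).2
    exact hz (by omega)
  · show Cyc.RatEquivZero δ c (α - (α - F.cycle hδ))
    rw [sub_sub_cancel]
    exact F.ratEquivZero hδ
  · by_contra hne
    change α z - F.cycle hδ z ≠ 0 at hz
    have hcyc : F.cycle hδ z = ∑ᶠ i : ULift.{u} T, Cyc.divFun δ η (h i.down ^ α (fibGen p i.down.1)) z := rfl
    by_cases hzc : δ z = c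
    · have hzg := hcomp z hzc hne
      have hd : δ z + 1 = δ η := by omega
      have hval : ∀ i : ULift.{u} T, Cyc.divFun δ η (h i.down ^ α (fibGen p i.down.1)) z =
          if i.down.1 = p z then α z else 0 := fun i => by
        rw [divFun_of (hgen z) hd, ordAt_zpow hδ _ hd (h0 _)]
        have heq : ∀ (w : P) (hw : η ⤳ w) (_ : w = z) (f : P.residueField η),
            Cyc.ordAt w η hw f = Cyc.ordAt z η (hgen z) f := by
          rintro w hw rfl f; rfl
        split_ifs with hi
        · have hw : fibGen p i.down.1 = z := by rw [hi]; exact hzg.symm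
          rw [← heq _ (hgen _) hw, h1, mul_one, hw]
        · rw [← heq _ (hgen _) hzg.symm, h2 i.down (p z) hne (Ne.symm hi), mul_zero]
      rw [hcyc, finsum_congr hval] at hz
      by_cases hzT : p z ∈ T
      · rw [finsum_eq_single _ (ULift.up ⟨p z, hzT⟩) (fun i hi => if_neg fun e => hi (ULift.ext _ _ (Subtype.ext e))),
          if_pos rfl, sub_self] at hz
        exact hz rfl
      · rw [finsum_eq_zero_of_forall_eq_zero (fun (i : ULift.{u} T) => if_neg fun (e : i.down.1 = p z) => hzT (e ▸ i.down.2)), sub_zero] at hz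
        exact hzT (Finset.mem_filter.2 ⟨(hsupp.image p).mem_toFinset.2 ⟨z, hz, rfl⟩, hne⟩)
    · rw [hα z hzc, zero_sub, neg_ne_zero, hcyc] at hz
      refine hz (finsum_eq_zero_of_forall_eq_zero fun i => ?_)
      by_contra hne'
      have := (specializes_of_divFun_ne_zero hne').2
      exact hzc (by omega)

end Groth.Agent.HorizDivLib
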