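import Groth.Agent.CycLib.Div
import Groth.Agent.ClProdLib.Fibre
import Groth.Agent.IMultLib.ProdPts
import Mathlib.Algebra.Polynomial.Eval.Degree

/-!
# Orders of polynomials along vertical divisors of the relative affine line
-/

set_option autoImplicit false
set_option backward.isDefEq.respectTransparency false
set_option linter.style.haveILetI false
set_option linter.unusedSectionVars false

universe u

open CategoryTheory CategoryTheory.Limits AlgebraicGeometry TopologicalSpace Polynomial

noncomputable section

namespace Groth.Agent.HorizDivLib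

open CycLib ClProdLib

section Unif

variable {X : Scheme.{u}} [IsLocallyNoetherian X] {δ : X → ℤ} (hδ : Cyc.IsDimFun X δ) {x ξ : X} (h : ξ ⤳ x)
  (hd : δ x + 1 = δ ξ)

include hδ hd in
/-- A generator of the maximal ideal has order one. -/
theorem ordAt_uniformizer {a : X.presheaf.stalk x} (ha : Cyc.specMap x ξ h a ≠ 0)
    (hm : IsLocalRing.maximalIdeal (X.presheaf.stalk x) = Ideal.span {a}) :
    Cyc.ordAt x ξ h (Cyc.specMap x ξ h a) = 1 := by
  rw [ordAt_specMap hδ h hd ha]
  let q := Ideal.Quotient.mk (RingHom.ker (Cyc.specMap x ξ h))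
  have hle : RingHom.ker (Cyc.specMap x ξ h) ≤ IsLocalRing.maximalIdeal (X.presheaf.stalk x) :=
    IsLocalRing.le_maximalIdeal (RingHom.ker_ne_top _)
  have hmax : (Ideal.span {q a}).IsMaximal := by
    rw [← Set.image_singleton, ← Ideal.map_span, ← hm]
    refine (Ideal.map_eq_top_or_isMaximal_of_surjective q Ideal.Quotient.mk_surjective
      (IsLocalRing.maximalIdeal.isMaximal _)).resolve_left fun e => ?_
    have := congrArg (Ideal.comap q) e
    rw [Ideal.comap_map_of_surjective q Ideal.Quotient.mk_surjective, Ideal.comap_top, ← RingHom.ker_eq_comap_bot,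
      Ideal.mk_ker, sup_eq_left.2 hle] at this
    exact (IsLocalRing.maximalIdeal.isMaximal _).ne_top this
  have h1 : Ring.ord (Cyc.LocQuot x ξ h) (q a) = 1 :=
    Module.length_eq_one_iff.2 (isSimpleModule_iff_isCoatom.2 hmax.out)
  rw [h1]
  rfl

end Unif

variable {X P : Scheme.{u}} (p : P ⟶ X) (t : Γ(P, ⊤))

/-- The coordinate takes a transcendental value at some field valued point over every point of the base. -/
def IsTransCoord : Prop :=
  ∀ x : X, ∃ (L : Type u) (_ : Field L) (ι : X.residueField x →+* L) (m : Spec (CommRingCat.of L) ⟶ P)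
    (_ : m ≫ p = Spec.map (X.residue x ≫ CommRingCat.ofHom ι) ≫ X.fromSpecStalk x),
    Function.Injective (Polynomial.eval₂RingHom ι
      (Scheme.stalkClosedPointTo m (P.presheaf.germ ⊤ _ trivial t)))

variable {p t}

/-- The value at a point of the stalk of a polynomial with coefficients in the local ring of the base. -/
def polyVal (z : P) : (X.presheaf.stalk (p z))[X] →+* P.presheaf.stalk z :=
  Polynomial.eval₂RingHom (p.stalkMap z).hom (P.presheaf.germ ⊤ z trivial t)

/-- Gauss: a polynomial with a unit coefficient is a unit at the generic point of the fibre. -/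
theorem isUnit_polyVal [GeometricallyIntegral p] (ht : IsTransCoord p t) {z : P} (hz : MaxFib p z)
    (Q : (X.presheaf.stalk (p z))[X]) {i : ℕ} (hi : IsUnit (Q.coeff i)) : IsUnit (polyVal (t := t) z Q) := by
  obtain ⟨L, _, ι, m, hm, hinj⟩ := ht (p z)
  haveI : IsLocalHom (X.residue (p z) ≫ CommRingCat.ofHom ι).hom := by
    haveI : IsLocalHom (X.residue (p z)).hom :=
      inferInstanceAs (IsLocalHom (IsLocalRing.residue (X.presheaf.stalk (p z))))
    exact RingHom.isLocalHom_comp ι (X.residue (p z)).hom
  set w := m (IsLocalRing.closedPoint L) with hw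
  have hpw : p w = p z := by
    rw [hw, ← Scheme.Hom.comp_apply, hm, Scheme.Hom.comp_apply]
    rw [show Spec.map (X.residue (p z) ≫ CommRingCat.ofHom ι) (IsLocalRing.closedPoint L) =
      IsLocalRing.closedPoint (X.presheaf.stalk (p z)) from Spec_closedPoint, Scheme.fromSpecStalk_closedPoint]
  have hzw : z ⤳ w := by
    rw [eq_fibGen p hz, ← hpw]
    exact IMultLib.specializes_fibGen p w
  let σ := X.presheaf.stalkSpecializes (specializes_of_eq hpw)
  let σ' := X.presheaf.stalkSpecializes (specializes_of_eq hpw.symm)
  let ev := Scheme.stalkClosedPointTo m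
  let Qw : (X.presheaf.stalk (p w))[X] := Q.map σ.hom
  have hval : ∀ r : X.presheaf.stalk (p w), ev (p.stalkMap w r) = ι (X.residue (p z) (σ' r)) := by
    have key : p.stalkMap w ≫ ev = σ' ≫ X.residue (p z) ≫ CommRingCat.ofHom ι := by
      refine TopCat.Presheaf.stalk_hom_ext _ fun U hU => ?_
      have hU' : (Spec.map (X.residue (p z) ≫ CommRingCat.ofHom ι) ≫ X.fromSpecStalk (p z))
          (IsLocalRing.closedPoint L) ∈ U := by
        rw [← hm, Scheme.Hom.comp_apply]; exact hU
      have h1 := Scheme.germ_stalkClosedPointTo_Spec_fromSpecStalk (X.residue (p z) ≫ CommRingCat.ofHom ι) U hU'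
      rw [TopCat.Presheaf.germ_stalkSpecializes_assoc]
      rw [← h1]
      have h2 := Scheme.stalkClosedPointTo_comp m p
      rw [← h2]
      congr! 2
      · exact hm ▸ rfl
      · rw [hw, ← Scheme.Hom.comp_apply, hm]
    exact fun r => ConcreteCategory.congr_hom key r
  have hQ : IsUnit (polyVal (t := t) w Qw) := by
    haveI : IsLocalHom ev.hom := inferInstance
    refine isUnit_of_map_unit ev.hom _ (IsUnit.mk0 _ fun e => ?_)
    have h1 : ev (polyVal (t := t) w Qw) = Polynomial.eval₂RingHom ι (ev (P.presheaf.germ ⊤ _ trivial t))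
        (Q.map (X.residue (p z)).hom) := by
      show ev.hom (Polynomial.eval₂ _ _ _) = Polynomial.eval₂ _ _ _
      rw [Polynomial.hom_eval₂, Polynomial.eval₂_map, Polynomial.eval₂_map]
      refine congrArg (fun φ => Polynomial.eval₂ φ _ Q) (RingHom.ext fun r => ?_)
      show ev (p.stalkMap w (σ r)) = ι (X.residue (p z) r)
      rw [hval]
      congr 2
      rw [← CommRingCat.comp_apply, TopCat.Presheaf.stalkSpecializes_comp,
        TopCat.Presheaf.stalkSpecializes_refl]
      rfl
    rw [h1, map_eq_zero_iff _ hinj] at e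
    have := congrArg (fun R : (X.residueField (p z))[X] => R.coeff i) e
    rw [Polynomial.coeff_map, Polynomial.coeff_zero] at this
    exact (hi.map (X.residue (p z)).hom).ne_zero this
  have h2 : P.presheaf.stalkSpecializes hzw (polyVal (t := t) w Qw) = polyVal (t := t) z Q := by
    show (P.presheaf.stalkSpecializes hzw).hom (Polynomial.eval₂ _ _ _) = Polynomial.eval₂ _ _ _
    rw [Polynomial.hom_eval₂, Polynomial.eval₂_map]
    congr 1
    · ext r
      show P.presheaf.stalkSpecializes hzw (p.stalkMap w (σ r)) = p.stalkMap z r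
      have h3 := ConcreteCategory.congr_hom (p.stalkSpecializes_stalkMap z w hzw) (σ r)
      simp only [CommRingCat.comp_apply] at h3
      rw [← h3]
      congr 1
      rw [← CommRingCat.comp_apply, TopCat.Presheaf.stalkSpecializes_comp, TopCat.Presheaf.stalkSpecializes_refl]
      rfl
    · exact TopCat.Presheaf.germ_stalkSpecializes_apply _ _ _ _
  rw [← h2]
  exact hQ.map _

end Groth.Agent.HorizDivLib
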