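import Groth.Agent.HorizDivLib.Ord
import Groth.Agent.NormalSch.Curve

/-!
# Valuations of the closed points of a curve and vertical orders
-/

set_option autoImplicit false
set_option backward.isDefEq.respectTransparency false
set_option linter.style.haveILetI false
set_option linter.unusedSectionVars false

universe u

open CategoryTheory CategoryTheory.Limits AlgebraicGeometry TopologicalSpace Polynomial

noncomputable section

namespace Groth.Agent.HorizDivLib

open CycLib ClProdLib

section Val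

variable {X : Scheme.{u}} [IsLocallyNoetherian X] {δ : X → ℤ} (hδ : Cyc.IsDimFun X δ) {x η : X} (h : η ⤳ x)
  (hd : δ x + 1 = δ η)

include hd in
theorem specMap_injective [IsDomain (X.presheaf.stalk x)] [IsDiscreteValuationRing (X.presheaf.stalk x)] :
    Function.Injective (Cyc.specMap x η h) := by
  rw [RingHom.injective_iff_ker_eq_bot]
  by_contra hne
  haveI : (RingHom.ker (Cyc.specMap x η h)).IsPrime := RingHom.ker_isPrime _
  have hmax : (RingHom.ker (Cyc.specMap x η h)).IsMaximal := Ideal.IsPrime.isMaximal inferInstance hne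
  have he := fromSpecStalk_ker h
  rw [show (⟨RingHom.ker (Cyc.specMap x η h), inferInstance⟩ : PrimeSpectrum (X.presheaf.stalk x)) =
    IsLocalRing.closedPoint _ from PrimeSpectrum.ext (IsLocalRing.eq_maximalIdeal hmax),
    Scheme.fromSpecStalk_closedPoint] at he
  rw [he] at hd
  omega

variable [IsDomain (X.presheaf.stalk x)] [IsDiscreteValuationRing (X.presheaf.stalk x)]
  {π : X.presheaf.stalk x} (hπ : Irreducible π)

include hd hπ in
theorem specMap_uniformizer_ne_zero : Cyc.specMap x η h π ≠ 0 := fun e =>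
  hπ.ne_zero (specMap_injective h hd (e.trans (map_zero _).symm))

include hδ hd hπ in
theorem ordAt_uniformizer' : Cyc.ordAt x η h (Cyc.specMap x η h π) = 1 :=
  ordAt_uniformizer hδ h hd (specMap_uniformizer_ne_zero h hd hπ)
    ((IsDiscreteValuationRing.irreducible_iff_uniformizer π).1 hπ)

include hδ hd hπ in
/-- Every nonzero rational function is a power of the uniformiser times a unit. -/
theorem exists_form {g : X.residueField η} (hg : g ≠ 0) : ∃ (n : ℤ) (v : (X.presheaf.stalk x)ˣ),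
    g = Cyc.specMap x η h π ^ n * Cyc.specMap x η h v ∧ Cyc.ordAt x η h g = n := by
  obtain ⟨a, b, hb, rfl⟩ := exists_fraction h g
  have ha : a ≠ 0 := fun e => hg (by rw [e, map_zero, zero_div])
  have hb' : b ≠ 0 := fun e => hb (by rw [e, map_zero])
  obtain ⟨m, v, rfl⟩ := IsDiscreteValuationRing.eq_unit_mul_pow_irreducible ha hπ
  obtain ⟨l, w, rfl⟩ := IsDiscreteValuationRing.eq_unit_mul_pow_irreducible hb' hπ
  have hπ0 := specMap_uniformizer_ne_zero h hd hπ
  have e : Cyc.specMap x η h (↑v * π ^ m) / Cyc.specMap x η h (↑w * π ^ l) =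
      Cyc.specMap x η h π ^ ((m : ℤ) - l) * Cyc.specMap x η h ↑(v * w⁻¹) := by
    have hw : Cyc.specMap x η h ↑w * Cyc.specMap x η h ↑w⁻¹ = 1 := by
      rw [← map_mul, Units.mul_inv, map_one]
    rw [div_eq_iff hb, zpow_sub₀ hπ0, zpow_natCast, zpow_natCast, Units.val_mul, map_mul, map_mul, map_mul,
      map_pow, map_pow]
    field_simp
    linear_combination (-(Cyc.specMap x η h ↑v)) * hw
  refine ⟨(m : ℤ) - l, v * w⁻¹, e, ?_⟩
  rw [e, ordAt_mul hδ h hd (zpow_ne_zero _ hπ0) (((v * w⁻¹).isUnit.map (Cyc.specMap x η h)).ne_zero),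
    ordAt_zpow hδ h hd hπ0, ordAt_uniformizer' hδ h hd hπ, ordAt_specMap_unit hδ h hd (v * w⁻¹).isUnit]
  ring

include hδ hd in
theorem exists_lift_of_nonneg {g : X.residueField η} (hg : 0 ≤ Cyc.ordAt x η h g) :
    ∃ r, Cyc.specMap x η h r = g ∧ (g ≠ 0 → Cyc.ordAt x η h g = 0 → IsUnit r) := by
  obtain ⟨π, hπ⟩ := IsDiscreteValuationRing.exists_irreducible (X.presheaf.stalk x)
  rcases eq_or_ne g 0 with rfl | hne
  · exact ⟨0, map_zero _, fun e => absurd rfl e⟩
  obtain ⟨n, v, hv, hn⟩ := exists_form hδ h hd hπ hne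
  obtain ⟨N, rfl⟩ : ∃ N : ℕ, n = N := ⟨n.toNat, by omega⟩
  refine ⟨π ^ N * v, by rw [hv, zpow_natCast, map_mul, map_pow], fun _ e => ?_⟩
  obtain rfl : N = 0 := by omega
  rw [pow_zero, one_mul]
  exact v.isUnit

end Val

section Separation

variable {X : Scheme.{u}} [X.IsSeparated] [IsLocallyNoetherian X] {δ : X → ℤ} (hδ : Cyc.IsDimFun X δ)
  {x s η : X} (hx : η ⤳ x) (hs : η ⤳ s) (hdx : δ x + 1 = δ η) (hds : δ s + 1 = δ η)
  [IsDomain (X.presheaf.stalk x)] [IsDiscreteValuationRing (X.presheaf.stalk x)]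
  [IsDomain (X.presheaf.stalk s)] [IsDiscreteValuationRing (X.presheaf.stalk s)]

include hδ hdx hds in
/-- Distinct closed points of a separated curve have different valuations. -/
theorem exists_separating (hne : x ≠ s) :
    ∃ c : X.residueField η, c ≠ 0 ∧ 1 ≤ Cyc.ordAt x η hx c ∧ Cyc.ordAt s η hs c ≤ 0 := by
  obtain ⟨π, hπ⟩ := IsDiscreteValuationRing.exists_irreducible (X.presheaf.stalk x)
  have hπ0 := specMap_uniformizer_ne_zero hx hdx hπ
  by_contra hall
  push Not at hall
  have hincl : ∀ r : X.presheaf.stalk x, ∃ r' : X.presheaf.stalk s, Cyc.specMap s η hs r' = Cyc.specMap x η hx r := by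
    intro r
    rcases eq_or_ne r 0 with rfl | hr
    · exact ⟨0, by rw [map_zero, map_zero]⟩
    have hg : Cyc.specMap x η hx r ≠ 0 := fun e => hr (specMap_injective hx hdx (e.trans (map_zero _).symm))
    obtain ⟨r', hr', -⟩ := exists_lift_of_nonneg hδ hs hds (g := Cyc.specMap x η hx r) (by
      by_contra hneg
      have hx0 : 0 ≤ Cyc.ordAt x η hx (Cyc.specMap x η hx r) := by
        rw [ordAt_specMap hδ hx hdx hg]; positivity
      obtain ⟨N, hN⟩ : ∃ N : ℕ, Cyc.ordAt s η hs (Cyc.specMap x η hx π) ≤ N := ⟨_, Int.self_le_toNat _⟩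
      have h1 := hall (Cyc.specMap x η hx π * Cyc.specMap x η hx r ^ ((N : ℤ))) (mul_ne_zero hπ0 (zpow_ne_zero _ hg)) (by
        rw [ordAt_mul hδ hx hdx hπ0 (zpow_ne_zero _ hg), ordAt_zpow hδ hx hdx hg, ordAt_uniformizer' hδ hx hdx hπ]
        have : (0 : ℤ) ≤ N * Cyc.ordAt x η hx (Cyc.specMap x η hx r) := by positivity
        omega)
      rw [ordAt_mul hδ hs hds hπ0 (zpow_ne_zero _ hg), ordAt_zpow hδ hs hds hg] at h1
      have : (N : ℤ) * Cyc.ordAt s η hs (Cyc.specMap x η hx r) ≤ (N : ℤ) * (-1) :=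
        mul_le_mul_of_nonneg_left (by omega) (by positivity)
      omega)
    exact ⟨r', hr'⟩
  choose φ hφ using hincl
  have hinj := specMap_injective hs hds
  let incl : X.presheaf.stalk x →+* X.presheaf.stalk s :=
    { toFun := φ
      map_one' := hinj (by rw [hφ, map_one, map_one])
      map_mul' := fun a b => hinj (by rw [hφ, map_mul, map_mul, hφ, hφ])
      map_zero' := hinj (by rw [hφ, map_zero, map_zero])
      map_add' := fun a b => hinj (by rw [hφ, map_add, map_add, hφ, hφ]) }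
  let ι := Spec.map (CommRingCat.ofHom (Cyc.specMap s η hs))
  haveI : IsDominant ι := ⟨(PrimeSpectrum.denseRange_comap_iff_ker_le_nilRadical _).2
    ((RingHom.injective_iff_ker_eq_bot _).1 hinj ▸ bot_le)⟩
  have heq : X.fromSpecStalk s = Spec.map (CommRingCat.ofHom incl) ≫ X.fromSpecStalk x := by
    refine ext_of_isDominant ι ?_
    rw [← Category.assoc, ← Spec.map_comp,
      show CommRingCat.ofHom incl ≫ CommRingCat.ofHom (Cyc.specMap s η hs) = CommRingCat.ofHom (Cyc.specMap x η hx) from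
        CommRingCat.hom_ext (RingHom.ext hφ)]
    show Spec.map (X.presheaf.stalkSpecializes hs ≫ X.residue η) ≫ X.fromSpecStalk s =
      Spec.map (X.presheaf.stalkSpecializes hx ≫ X.residue η) ≫ X.fromSpecStalk x
    rw [Spec.map_comp, Spec.map_comp, Category.assoc, Category.assoc,
      Scheme.SpecMap_stalkSpecializes_fromSpecStalk, Scheme.SpecMap_stalkSpecializes_fromSpecStalk]
  let P : PrimeSpectrum (X.presheaf.stalk x) := Spec.map (CommRingCat.ofHom incl) (IsLocalRing.closedPoint _)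
  have hP : X.fromSpecStalk x P = s := by
    show X.fromSpecStalk x (Spec.map (CommRingCat.ofHom incl) (IsLocalRing.closedPoint _)) = s
    refine (Scheme.Hom.comp_apply (Spec.map (CommRingCat.ofHom incl)) (X.fromSpecStalk x) _).symm.trans ?_
    rw [← heq]
    exact Scheme.fromSpecStalk_closedPoint
  rcases eq_or_ne P.asIdeal ⊥ with hb | hb
  · have h0 : P = ⟨RingHom.ker (Cyc.specMap x η hx), RingHom.ker_isPrime _⟩ :=
      PrimeSpectrum.ext (hb.trans ((RingHom.injective_iff_ker_eq_bot _).1 (specMap_injective hx hdx)).symm)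
    rw [h0, fromSpecStalk_ker hx] at hP
    rw [hP] at hds
    omega
  · have h0 : P = IsLocalRing.closedPoint _ :=
      PrimeSpectrum.ext (IsLocalRing.eq_maximalIdeal (Ideal.IsPrime.isMaximal P.2 hb))
    rw [h0, Scheme.fromSpecStalk_closedPoint] at hP
    exact hne hP

end Separation

section Poly

variable {X P : Scheme.{u}} (p : P ⟶ X) (t : Γ(P, ⊤)) [IsLocallyNoetherian X] [IsLocallyNoetherian P]

/-- The rational function on the total space of a polynomial with rational coefficients. -/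
def polyK (η : P) : (X.residueField (p η))[X] →+* P.residueField η :=
  Polynomial.eval₂RingHom (p.residueFieldMap η).hom (P.residue η (P.presheaf.germ ⊤ η trivial t))

variable {p t} [GeometricallyIntegral p] (ht : IsTransCoord p t) {δX : X → ℤ} {δ : P → ℤ}
  (hδX : Cyc.IsDimFun X δX) (hδ : Cyc.IsDimFun P δ) {z η : P} (h : η ⤳ z) (hd : δ z + 1 = δ η)
  (hdX : δX (p z) + 1 = δX (p η)) (hz : MaxFib p z)
  [IsDomain (X.presheaf.stalk (p z))] [IsDiscreteValuationRing (X.presheaf.stalk (p z))]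

include ht hδX hδ hd hdX hz in
/-- The vertical order of a polynomial is the least order of its coefficients. -/
theorem ordAt_polyK (g : (X.residueField (p η))[X]) (m : ℤ)
    (hle : ∀ i, g.coeff i ≠ 0 → m ≤ Cyc.ordAt (p z) (p η) (h.map p.continuous) (g.coeff i))
    (heq : ∃ i, g.coeff i ≠ 0 ∧ Cyc.ordAt (p z) (p η) (h.map p.continuous) (g.coeff i) = m) :
    polyK p t η g ≠ 0 ∧ Cyc.ordAt z η h (polyK p t η g) = m := by
  let h' := h.map p.continuous
  obtain ⟨π, hπ⟩ := IsDiscreteValuationRing.exists_irreducible (X.presheaf.stalk (p z))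
  set ϖ := Cyc.specMap (p z) (p η) h' π
  have hπ0 : ϖ ≠ 0 := specMap_uniformizer_ne_zero h' hdX hπ
  have hc : ∀ c : X.residueField (p η), c ≠ 0 →
      Cyc.ordAt (p z) (p η) h' (ϖ ^ (-m) * c) = Cyc.ordAt (p z) (p η) h' c - m := fun c hc => by
    rw [ordAt_mul hδX h' hdX (zpow_ne_zero _ hπ0) hc, ordAt_zpow hδX h' hdX hπ0, ordAt_uniformizer' hδX h' hdX hπ]
    ring
  have hco : ∀ i, ∃ r, Cyc.specMap (p z) (p η) h' r = (C (ϖ ^ (-m)) * g).coeff i ∧
      ((C (ϖ ^ (-m)) * g).coeff i ≠ 0 → Cyc.ordAt (p z) (p η) h' ((C (ϖ ^ (-m)) * g).coeff i) = 0 → IsUnit r) := fun i => by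
    refine exists_lift_of_nonneg hδX h' hdX ?_
    rw [Polynomial.coeff_C_mul]
    rcases eq_or_ne (g.coeff i) 0 with e | e
    · rw [e, mul_zero, ordAt_zero hδX h' hdX]
    · rw [hc _ e]
      have : m ≤ Cyc.ordAt (p z) (p η) h' (g.coeff i) := hle i e
      omega
  obtain ⟨Q, hQ⟩ := (Polynomial.mem_lifts _).1 ((Polynomial.lifts_iff_coeff_lifts (f := Cyc.specMap (p z) (p η) h')
    (C (ϖ ^ (-m)) * g)).2 fun i => ⟨_, (hco i).choose_spec.1⟩)
  obtain ⟨i, hi, him⟩ := heq
  have hQi : IsUnit (Q.coeff i) := by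
    obtain ⟨r, hr, hru⟩ := hco i
    have : Q.coeff i = r := by
      refine specMap_injective h' hdX ?_
      rw [hr, ← hQ, Polynomial.coeff_map]
    rw [this]
    refine hru ?_ ?_
    · rw [Polynomial.coeff_C_mul]
      exact mul_ne_zero (zpow_ne_zero _ hπ0) hi
    · rw [Polynomial.coeff_C_mul, hc _ hi, him, sub_self]
  have hu := isUnit_polyVal ht hz Q hQi
  have hval : Cyc.specMap z η h (polyVal (t := t) z Q) = polyK p t η (C (ϖ ^ (-m)) * g) := by
    rw [← hQ]
    show Cyc.specMap z η h (Polynomial.eval₂ _ _ Q) = Polynomial.eval₂ _ _ (Q.map _)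
    rw [Polynomial.hom_eval₂, Polynomial.eval₂_map]
    congr 1
    · exact RingHom.ext fun r => (residueFieldMap_specMap p h h' r).symm
    · show P.residue η (P.presheaf.stalkSpecializes h (P.presheaf.germ ⊤ z trivial t)) = _
      rw [TopCat.Presheaf.germ_stalkSpecializes_apply]
  have hπP : Cyc.specMap z η h (p.stalkMap z π) = p.residueFieldMap η ϖ := (residueFieldMap_specMap p h h' π).symm
  have hϖ : p.residueFieldMap η ϖ ≠ 0 := fun e => hπ0 ((p.residueFieldMap η).hom.injective (e.trans (map_zero _).symm))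
  have hmax : IsLocalRing.maximalIdeal (P.presheaf.stalk z) = Ideal.span {p.stalkMap z π} := by
    have h1 := length_fibIdeal_eq_one p hz
    haveI := Module.length_eq_one_iff.1 h1
    have h2 : (fibIdeal p z).IsMaximal := Ideal.isMaximal_def.2 (isSimpleModule_iff_isCoatom.1 inferInstance)
    rw [← IsLocalRing.eq_maximalIdeal h2]
    show (IsLocalRing.maximalIdeal (X.presheaf.stalk (p z))).map (p.stalkMap z).hom = _
    rw [(IsDiscreteValuationRing.irreducible_iff_uniformizer π).1 hπ, Ideal.map_span, Set.image_singleton]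
  have hord : Cyc.ordAt z η h (p.residueFieldMap η ϖ) = 1 := by
    rw [← hπP]
    exact ordAt_uniformizer hδ h hd (hπP ▸ hϖ) hmax
  have hg : polyK p t η g = p.residueFieldMap η ϖ ^ m * Cyc.specMap z η h (polyVal (t := t) z Q) := by
    rw [hval, map_mul, show polyK p t η (C (ϖ ^ (-m))) = (p.residueFieldMap η ϖ) ^ (-m) from
      (Polynomial.eval₂_C _ _).trans (map_zpow₀ _ _ _), ← mul_assoc, ← zpow_add₀ hϖ, add_neg_cancel, zpow_zero,
      one_mul]
  have hu0 : Cyc.specMap z η h (polyVal (t := t) z Q) ≠ 0 := (hu.map _).ne_zero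
  rw [hg]
  refine ⟨mul_ne_zero (zpow_ne_zero _ hϖ) hu0, ?_⟩
  rw [ordAt_mul hδ h hd (zpow_ne_zero _ hϖ) hu0, ordAt_zpow hδ h hd hϖ, hord, ordAt_specMap_unit hδ h hd hu]
  ring

end Poly

end Groth.Agent.HorizDivLib
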